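import Cfsg.Agent.H759.PV.Pair
import Cfsg.Agent.H492.IMHe
import Cfsg.Agent.H678.DG.HeDegA
import Cfsg.Agent.H620.SporCrit

/-!
# S4555, S4559: the Held group, `p = 3, 5` (helper759, task 4136)
-/

set_option autoImplicit false
set_option maxRecDepth 100000

namespace Cfsg.Agent.H759.PV.He

open Subgroup Cfsg
open Cfsg.Spor.He (Gen)
open Cfsg.Agent.SporadicB.HePerm (act wd)
open Cfsg.Agent.FixBN.HeStab Cfsg.Agent.KFacts.He.Lv Cfsg.Agent.CpAutHe.Cnt
open Cfsg.Agent.H492.IMHeCnt Cfsg.Agent.H492.IMHeDat Cfsg.Agent.H492.IMTools Cfsg.Agent.H33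
open Cfsg.Agent.H492.IMHe Cfsg.Agent.H620.PNorm Cfsg.Agent.H665.NoPQ

theorem fin_he : Finite Cfsg.Spor.He :=
  Nat.finite_of_card_ne_zero (by rw [H678.DG.HeDegA.card_he]; norm_num)

theorem model_3 : VOrdP 3 Cfsg.Spor.He := by
  have := fin_he
  have hp := pair (p := 3) XB3 YB3 _ o3 oy3 (by decide +kernel) (by decide +kernel)
    (by norm_num) qB3
  have hle : Nat.card (centralizer ({wd XB3} : Set Cfsg.Spor.He)) ≤ 126 * (4 * 1) :=
    qA3 _ (bd_one _ _)
  have h7 : 7 ∣ Nat.card (centralizer ({wd XB3} : Set Cfsg.Spor.He)) :=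
    dvd_cent (comm_of_chk (by decide +kernel)) oz37
  have h4 : 4 ∣ Nat.card (centralizer ({wd XB3} : Set Cfsg.Spor.He)) :=
    dvd_cent (comm_of_chk (by decide +kernel)) o4'
  have h0 : 0 < Nat.card (centralizer ({wd XB3} : Set Cfsg.Spor.He)) := Nat.card_pos
  obtain ⟨m, hm⟩ := hp.1
  have h3 := arith3 hle h7 h4 h0 hm
  refine vOrdP_of_pair (x := wd XB3) (y := wd YB3) o3 oy3 (comm_of_chk (by decide +kernel))
    (not_mem_zpowers_of (by norm_num) o3 (by decide +kernel)) hp.2 hm h3 {1, 4, 7} ?_ ?_ ?_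
  · intro n hn
    simp only [Finset.mem_insert, Finset.mem_singleton] at hn
    rcases hn with rfl | rfl | rfl
    exacts [⟨by norm_num, _, comm_of_chk (by decide +kernel), o1⟩,
      ⟨by norm_num, _, comm_of_chk (by decide +kernel), o4'⟩,
      ⟨by norm_num, _, comm_of_chk (by decide +kernel), oz37⟩]
  · intro _
    exact lt_of_lt_of_le (Nat.mod_lt m (by norm_num)) (by decide)
  · rw [H678.DG.HeDegA.card_he]
    norm_num

theorem hasDZ_5 : HasDZ 5 Cfsg.Spor.He := by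
  obtain ⟨χ, hχ⟩ := H678.DG.HeDegA.deg_1275
  refine ⟨χ, ?_⟩
  rw [hχ, H678.DG.HeDegA.card_he]
  rw [show (1275 : ℕ) = 5 ^ 2 * 51 by norm_num, show (4030387200 : ℕ) = 5 ^ 2 * 161215488 by norm_num,
    Nat.factorization_mul (by norm_num) (by norm_num), Nat.factorization_mul (by norm_num) (by norm_num),
    Finsupp.add_apply, Finsupp.add_apply, Nat.factorization_eq_zero_of_not_dvd (n := 51) (by norm_num),
    Nat.factorization_eq_zero_of_not_dvd (n := 161215488) (by norm_num)]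

theorem model_5 : VOrdP 5 Cfsg.Spor.He := by
  have := fin_he
  obtain ⟨x, hx⟩ := exists_prime_orderOf_dvd_card' (G := Cfsg.Spor.He) 5 (by rw [H678.DG.HeDegA.card_he]; norm_num)
  exact ⟨x, hx, H713.HasDZ.vz hasDZ_5 (by rw [hx])⟩

/-- **`He`, `p = 3`** -/
theorem he_3 {K : Type*} [Group K] (h : Spor.IsoHe K) : VOrdP 3 K := by
  obtain ⟨e⟩ := h
  exact model_3.mulEquiv e.symm

/-- **`He`, `p = 5`** -/
theorem he_5 {K : Type*} [Group K] (h : Spor.IsoHe K) : VOrdP 5 K := by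
  obtain ⟨e⟩ := h
  exact model_5.mulEquiv e.symm

end Cfsg.Agent.H759.PV.He
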